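import Cfsg.Agent.Lib.Lie.AxOf

/-!
# Every root of a Chevalley datum is a Weyl conjugate of a fundamental root

As a consequence the root elements of the fundamental roots and their negatives generate the group.
-/

set_option autoImplicit false

namespace Cfsg.Agent.Lib.ChevX.Reach

open Cfsg.Lie Cfsg.Agent.Lib.Chev.AxBasic Cfsg.Agent.Lib.Lie.Facts
open scoped MatrixGroups

/-- The height of a root with respect to the fundamental coroots. -/
def ht (D : ChevalleyDatum) (r : ℕ) : ℤ :=
  ((List.range D.rank).map fun i => (D.coroot.getD r #[]).getD i 0).sum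

/-- The measure of a root: negative roots come just after the positive root of the same height. -/
def meas (D : ChevalleyDatum) (r : ℕ) : ℕ :=
  if 0 < ht D r then 2 * (ht D r).toNat - 1 else 2 * (-ht D r).toNat

/-- The certificate. -/
def reachCheck (D : ChevalleyDatum) : Bool :=
  (List.range D.nroots).all fun r =>
    (List.range D.rank).any fun i =>
      decide (D.simple i = r) || decide (meas D (D.reflectRoot i r) < meas D r)

theorem reachCheck_G2 : reachCheck chevG2 = true := by decide +kernel
theorem reachCheck_B2 : reachCheck chevB2 = true := by decide +kernel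
theorem reachCheck_D4 : reachCheck chevD4 = true := by decide +kernel
theorem reachCheck_F4 : reachCheck chevF4 = true := by decide +kernel
theorem reachCheck_E6 : reachCheck chevE6 = true := by decide +kernel
theorem reachCheck_E7 : reachCheck chevE7 = true := by decide +kernel
set_option maxRecDepth 100000 in
theorem reachCheck_E8 : reachCheck chevE8 = true := by decide +kernel

theorem reachCheck_of_mem {D : ChevalleyDatum} (hD : IsData D) : reachCheck D = true := by
  simp only [IsData, List.mem_cons, List.not_mem_nil, or_false] at hD
  rcases hD with rfl | rfl | rfl | rfl | rfl | rfl | rfl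
  · exact reachCheck_G2
  · exact reachCheck_B2
  · exact reachCheck_D4
  · exact reachCheck_F4
  · exact reachCheck_E6
  · exact reachCheck_E7
  · exact reachCheck_E8

variable {D : ChevalleyDatum}

/-- Induction on the roots along the Weyl group. -/
theorem root_induction (hD : IsData D) {P : ℕ → Prop} (hs : ∀ i, i < D.rank → P (D.simple i))
    (hstep : ∀ i, i < D.rank → ∀ s, s < D.nroots → P s → P (D.reflectRoot i s)) :
    ∀ r, r < D.nroots → P r := by
  have hc := reachCheck_of_mem hD
  have key : ∀ n r, meas D r = n → r < D.nroots → P r := by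
    intro n
    induction n using Nat.strong_induction_on with
    | _ n ih =>
      intro r hn hr
      have h1 := (List.all_eq_true.1 hc) r (List.mem_range.2 hr)
      obtain ⟨i, hi, h2⟩ := List.any_eq_true.1 h1
      have hi' : i < D.rank := List.mem_range.1 hi
      rw [Bool.or_eq_true, decide_eq_true_eq, decide_eq_true_eq] at h2
      rcases h2 with h2 | h2
      · rw [← h2]
        exact hs i hi'
      · have hlt := reflect_lt hD i r hi' hr
        have h3 := ih _ (hn ▸ h2) _ rfl hlt
        have h4 := hstep i hi' _ hlt h3
        rwa [reflect_reflect hD i r hi' hr] at h4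
  intro r hr
  exact key _ r rfl hr

variable {F : Type*} [Field F]

lemma xG_mem_group (ax : Ax D F) {r : ℕ} (hr : r < D.nroots) (t : F) : xG ax r t ∈ D.group F := by
  apply Subgroup.subset_closure
  refine ⟨⟨r, hr⟩, t, ?_⟩
  show D.x F r t = _
  simp [ChevalleyDatum.x, hr]

/-- The root elements of the fundamental roots and their negatives generate the group. -/
theorem group_le (hD : IsData D) (ax : Ax D F) {K : Subgroup (GL D.Idx F)}
    (h1 : ∀ i, i < D.rank → ∀ t : F, xG ax (D.simple i) t ∈ K)
    (h2 : ∀ i, i < D.rank → ∀ t : F, xG ax (D.neg (D.simple i)) t ∈ K) :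
    D.group F ≤ K := by
  have hn : ∀ i, i < D.rank → nG ax (D.simple i) 1 ∈ K := by
    intro i hi
    exact K.mul_mem (K.mul_mem (h1 i hi _) (h2 i hi _)) (h1 i hi _)
  have hall : ∀ r, r < D.nroots → ∀ t : F, xG ax r t ∈ K := by
    refine root_induction hD h1 ?_
    intro i hi s hs hP t
    obtain ⟨η, hη, h3, -⟩ := ax.n_simple i s hi hs
    have hηF : ((η : ℤ) : F) * ((η : ℤ) : F) = 1 := by
      rcases hη with rfl | rfl <;> simp
    have h4 : nG ax (D.simple i) 1 * xG ax s ((η : F) * t) =
        xG ax (D.reflectRoot i s) ((η : F) * ((η : F) * t)) * nG ax (D.simple i) 1 := by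
      apply Units.ext
      simp only [Units.val_mul, nG_val, xG_val]
      exact h3 _
    rw [← mul_assoc, hηF, one_mul] at h4
    have h5 : xG ax (D.reflectRoot i s) t =
        nG ax (D.simple i) 1 * xG ax s ((η : F) * t) * (nG ax (D.simple i) 1)⁻¹ := by
      rw [h4, mul_inv_cancel_right]
    rw [h5]
    exact K.mul_mem (K.mul_mem (hn i hi) (hP _)) (K.inv_mem (hn i hi))
  apply (Subgroup.closure_le _).2
  rintro g ⟨⟨r, hr⟩, t, hg⟩
  have : g = xG ax r t := by
    apply Units.ext
    rw [hg]
    show _ = D.x F r t
    simp [ChevalleyDatum.x, hr]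
  rw [this]
  exact hall r hr t

end Cfsg.Agent.Lib.ChevX.Reach
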